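import Mathlib
import Groth.Prelude.Def_MoreMor

set_option autoImplicit false
set_option backward.isDefEq.respectTransparency false
set_option backward.defeqAttrib.useBackward true
set_option linter.style.haveILetI false

/-!
# The infinitesimal lifting definition of formally étale morphisms of schemes
-/

open CategoryTheory CategoryTheory.Limits AlgebraicGeometry Opposite

universe u

namespace Groth.Agent.FEtHom

variable {X Y Z : Scheme.{u}}

theorem comp {f : X ⟶ Y} {g : Y ⟶ Z} (hf : MoreMor.IsFormallyEtaleHom f)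
    (hg : MoreMor.IsFormallyEtaleHom g) : MoreMor.IsFormallyEtaleHom (f ≫ g) := by
  intro A _ I hI a b w
  obtain ⟨l₁, ⟨h₁, h₂⟩, hu₁⟩ := hg A I hI (a ≫ f) b (by rw [Category.assoc]; exact w)
  obtain ⟨l, ⟨k₁, k₂⟩, hu⟩ := hf A I hI a l₁ h₁
  refine ⟨l, ⟨k₁, by rw [← Category.assoc, k₂, h₂]⟩, fun m ⟨m₁, m₂⟩ => hu m ⟨m₁, hu₁ _ ⟨?_, ?_⟩⟩⟩
  · rw [← Category.assoc, m₁]
  · rw [Category.assoc, m₂]

theorem of_comp {f : X ⟶ Y} {g : Y ⟶ Z} (hfg : MoreMor.IsFormallyEtaleHom (f ≫ g))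
    (hg : MoreMor.IsFormallyEtaleHom g) : MoreMor.IsFormallyEtaleHom f := by
  intro A _ I hI a b w
  obtain ⟨l, ⟨k₁, k₂⟩, hu⟩ := hfg A I hI a (b ≫ g) (by rw [← Category.assoc, w, Category.assoc])
  refine ⟨l, ⟨k₁, ?_⟩, fun m ⟨m₁, m₂⟩ => hu m ⟨m₁, by rw [← Category.assoc, m₂]⟩⟩
  obtain ⟨n, -, hn⟩ := hg A I hI (a ≫ f) (b ≫ g) (by rw [← Category.assoc, w])
  rw [hn (l ≫ f) ⟨by rw [← Category.assoc, k₁], by rw [Category.assoc, k₂]⟩, hn b ⟨w, rfl⟩]

theorem of_isPullback {X' Y' : Scheme.{u}} {f : X ⟶ Y} {g : Y' ⟶ Y} {g' : X' ⟶ X} {f' : X' ⟶ Y'}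
    (hc : IsPullback g' f' f g) (hf : MoreMor.IsFormallyEtaleHom f) :
    MoreMor.IsFormallyEtaleHom f' := by
  intro A _ I hI a b w
  obtain ⟨l, ⟨k₁, k₂⟩, hu⟩ := hf A I hI (a ≫ g') (b ≫ g)
    (by rw [← Category.assoc, w, Category.assoc, ← hc.w, Category.assoc])
  refine ⟨hc.lift l b k₂, ⟨hc.hom_ext ?_ ?_, hc.lift_snd _ _ _⟩, fun m ⟨m₁, m₂⟩ => ?_⟩
  · rw [Category.assoc, hc.lift_fst, k₁]
  · rw [Category.assoc, hc.lift_snd, w]
  · refine hc.hom_ext ?_ (by rw [hc.lift_snd, m₂])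
    rw [hc.lift_fst]
    exact hu _ ⟨by rw [← Category.assoc, m₁], by rw [Category.assoc, hc.w, ← Category.assoc, m₂]⟩

theorem surjective_quotient (A : Type u) [CommRing A] (I : Ideal A) (hI : I ^ 2 = ⊥) :
    Function.Surjective (Spec.map (CommRingCat.ofHom (Ideal.Quotient.mk I))) := by
  intro p
  have hle : I ≤ p.asIdeal := fun x hx => by
    refine p.isPrime.mem_of_pow_mem 2 ?_
    have : x ^ 2 ∈ I ^ 2 := Ideal.pow_mem_pow hx 2
    rw [hI, Ideal.mem_bot] at this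
    rw [this]
    exact p.asIdeal.zero_mem
  have : p ∈ Set.range (PrimeSpectrum.comap (Ideal.Quotient.mk I)) := by
    rw [range_comap_of_surjective _ _ Ideal.Quotient.mk_surjective, Ideal.mk_ker]
    exact hle
  exact this

theorem of_isOpenImmersion (j : X ⟶ Y) [IsOpenImmersion j] : MoreMor.IsFormallyEtaleHom j := by
  intro A _ I hI a b w
  have hr : Set.range b ⊆ Set.range j := by
    rintro _ ⟨p, rfl⟩
    obtain ⟨q, rfl⟩ := surjective_quotient A I hI p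
    exact ⟨a q, by rw [← Scheme.Hom.comp_apply, ← w, Scheme.Hom.comp_apply]⟩
  refine ⟨IsOpenImmersion.lift j b hr, ⟨?_, IsOpenImmersion.lift_fac _ _ _⟩, fun m ⟨_, m₂⟩ => ?_⟩
  · rw [← cancel_mono j, Category.assoc, IsOpenImmersion.lift_fac, w]
  · rw [← cancel_mono j, IsOpenImmersion.lift_fac, m₂]

theorem of_iso (j : X ⟶ Y) [IsIso j] : MoreMor.IsFormallyEtaleHom j := of_isOpenImmersion j

theorem resLE {f : X ⟶ Y} (hf : MoreMor.IsFormallyEtaleHom f) (U : X.Opens) (V : Y.Opens)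
    (h : U ≤ f ⁻¹ᵁ V) : MoreMor.IsFormallyEtaleHom (f.resLE V U h) := by
  refine of_comp (g := V.ι) ?_ (of_isOpenImmersion _)
  rw [Scheme.Hom.resLE_comp_ι]
  exact comp (of_isOpenImmersion _) hf

/-- The case of affine schemes. -/
theorem spec_map_iff {R S : CommRingCat.{u}} (φ : R ⟶ S) :
    MoreMor.IsFormallyEtaleHom (Spec.map φ) ↔ φ.hom.FormallyEtale := by
  algebraize [φ.hom]
  show _ ↔ Algebra.FormallyEtale R S
  rw [Algebra.FormallyEtale.iff_comp_bijective]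
  constructor
  · intro h B _ _ I hI
    refine ⟨fun g₁ g₂ hg => ?_, fun g => ?_⟩
    · obtain ⟨l, -, hu⟩ := h B I hI (Spec.map (CommRingCat.ofHom
        ((Ideal.Quotient.mkₐ R I).comp g₁).toRingHom)) (Spec.map (CommRingCat.ofHom (algebraMap R B))) (by
        rw [← Spec.map_comp, ← Spec.map_comp]
        congr 1
        ext r
        exact (((Ideal.Quotient.mkₐ R I).comp g₁).commutes r).symm)
      have key : ∀ g : S →ₐ[R] B, (Ideal.Quotient.mkₐ R I).comp g = (Ideal.Quotient.mkₐ R I).comp g₁ →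
          Spec.map (CommRingCat.ofHom g.toRingHom) = l := fun g hg => hu _ ⟨by
            rw [← Spec.map_comp, ← hg]; rfl, by
            rw [← Spec.map_comp]; congr 1; ext r; exact g.commutes r⟩
      have := Spec.map_injective ((key g₁ rfl).trans (key g₂ hg.symm).symm)
      exact AlgHom.ext fun x => congr($(this).hom x)
    · obtain ⟨l, ⟨l₁, l₂⟩, -⟩ := h B I hI (Spec.map (CommRingCat.ofHom g.toRingHom))
        (Spec.map (CommRingCat.ofHom (algebraMap R B))) (by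
        rw [← Spec.map_comp, ← Spec.map_comp]
        congr 1
        ext r
        exact (g.commutes r).symm)
      obtain ⟨ψ, rfl⟩ := Spec.map_surjective l
      rw [← Spec.map_comp] at l₁ l₂
      have h₁ := Spec.map_injective l₁
      have h₂ := Spec.map_injective l₂
      exact ⟨⟨ψ.hom, fun r => congr($(h₂).hom r)⟩, AlgHom.ext fun x => congr($(h₁).hom x)⟩
  · intro h A _ I hI a b w
    obtain ⟨α, rfl⟩ := Spec.map_surjective a
    obtain ⟨β, rfl⟩ := Spec.map_surjective b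
    rw [← Spec.map_comp, ← Spec.map_comp] at w
    have w' := Spec.map_injective w
    letI : Algebra R A := β.hom.toAlgebra
    let α' : S →ₐ[R] A ⧸ I := ⟨α.hom, fun r => congr($(w'.symm).hom r)⟩
    obtain ⟨ψ, hψ⟩ := (h I hI).2 α'
    refine ⟨Spec.map (CommRingCat.ofHom ψ.toRingHom), ⟨?_, ?_⟩, fun m ⟨m₁, m₂⟩ => ?_⟩
    · rw [← Spec.map_comp]
      congr 1
      ext x
      exact AlgHom.congr_fun hψ x
    · rw [← Spec.map_comp]
      congr 1
      ext r
      exact ψ.commutes r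
    · obtain ⟨μ, rfl⟩ := Spec.map_surjective m
      rw [← Spec.map_comp] at m₁ m₂
      let μ' : S →ₐ[R] A := ⟨μ.hom, fun r => congr($(Spec.map_injective m₂).hom r)⟩
      have hc : (Ideal.Quotient.mkₐ R I).comp μ' = α' := AlgHom.ext fun x =>
        RingHom.congr_fun (congrArg CommRingCat.Hom.hom (Spec.map_injective m₁)) x
      have : μ' = ψ := (h I hI).1 (hc.trans hψ.symm)
      rw [← this]
      rfl

/-- The lifting property against a closed immersion into an affine scheme, square zero. -/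
theorem existsUnique_lift_affine {f : X ⟶ Y} (hf : MoreMor.IsFormallyEtaleHom f) {T T' : Scheme.{u}}
    [IsAffine T'] (i : T ⟶ T') [IsClosedImmersion i] (hi : RingHom.ker i.appTop.hom ^ 2 = ⊥)
    (a : T ⟶ X) (b : T' ⟶ Y) (w : i ≫ b = a ≫ f) :
    ∃! l : T' ⟶ X, i ≫ l = a ∧ l ≫ f = b := by
  obtain ⟨_, hs⟩ := IsClosedImmersion.isAffine_surjective_of_isAffine i
  let A := Γ(T', ⊤)
  let J : Ideal A := RingHom.ker i.appTop.hom
  let e := (RingHom.quotientKerEquivOfSurjective hs).toCommRingCatIso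
  let k : Spec (CommRingCat.of (A ⧸ J)) ⟶ T := Spec.map e.inv ≫ T.isoSpec.inv
  haveI : IsIso k := by unfold k; infer_instance
  have hk : k ≫ i = Spec.map (CommRingCat.ofHom (Ideal.Quotient.mk J)) ≫ T'.isoSpec.inv := by
    rw [Category.assoc, ← Scheme.isoSpec_inv_naturality, ← Category.assoc, ← Spec.map_comp]
    congr 2
    ext x
    exact RingHom.quotientKerEquivOfSurjective_symm_apply hs x
  obtain ⟨l, ⟨h₁, h₂⟩, hu⟩ := hf A J hi (k ≫ a) (T'.isoSpec.inv ≫ b)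
    (by rw [← Category.assoc, ← hk, Category.assoc, w, ← Category.assoc])
  refine ⟨T'.isoSpec.hom ≫ l, ⟨?_, ?_⟩, fun m ⟨m₁, m₂⟩ => ?_⟩
  · rw [← cancel_epi k, ← Category.assoc, hk, Category.assoc, Iso.inv_hom_id_assoc, h₁]
  · rw [Category.assoc, h₂, Iso.hom_inv_id_assoc]
  · rw [← hu (T'.isoSpec.inv ≫ m) ⟨?_, by rw [Category.assoc, m₂]⟩, Iso.hom_inv_id_assoc]
    rw [← Category.assoc, ← hk, Category.assoc, m₁]

/-- An affine open is a *square zero* open for `i`. -/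
theorem ker_morphismRestrict {T T' : Scheme.{u}} (i : T ⟶ T') (W : T'.Opens)
    (h : RingHom.ker (i.app W).hom ^ 2 = ⊥) :
    RingHom.ker (i ∣_ W).appTop.hom ^ 2 = ⊥ := by
  have h' : RingHom.ker (i.app (W.ι ''ᵁ ⊤)).hom ^ 2 = ⊥ := by rw [W.ι_image_top]; exact h
  rw [morphismRestrict_appTop]
  have e : ∀ (R : CommRingCat.{u}) (m : Γ(T, i ⁻¹ᵁ (W.ι ''ᵁ ⊤)) ⟶ R) [IsIso m],
      RingHom.ker (i.app (W.ι ''ᵁ ⊤) ≫ m).hom = RingHom.ker (i.app (W.ι ''ᵁ ⊤)).hom := by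
    intro R m _
    rw [CommRingCat.hom_comp]
    exact RingHom.ker_comp_of_injective _ (ConcreteCategory.bijective_of_isIso m).1
  rw [e]
  exact h'

theorem ker_appTop_sq (A : Type u) [CommRing A] (I : Ideal A) (hI : I ^ 2 = ⊥) :
    RingHom.ker (Spec.map (CommRingCat.ofHom (Ideal.Quotient.mk I))).appTop.hom ^ 2 = ⊥ := by
  let e := Scheme.ΓSpecIso (CommRingCat.of A)
  let g : A →+* Γ(Spec (CommRingCat.of A), ⊤) := e.inv.hom
  have hg : Function.Bijective g := ConcreteCategory.bijective_of_isIso e.inv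
  have h : RingHom.ker (Spec.map (CommRingCat.ofHom (Ideal.Quotient.mk I))).appTop.hom = I.map g := by
    ext x
    obtain ⟨y, rfl⟩ := hg.2 x
    rw [Ideal.mem_map_iff_of_surjective _ hg.2, RingHom.mem_ker]
    have hn := congr($(Scheme.ΓSpecIso_inv_naturality (CommRingCat.ofHom (Ideal.Quotient.mk I))).hom y)
    rw [CommRingCat.hom_comp, CommRingCat.hom_comp, RingHom.comp_apply, RingHom.comp_apply] at hn
    rw [← hn, map_eq_zero_iff _ (ConcreteCategory.bijective_of_isIso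
      (Scheme.ΓSpecIso (CommRingCat.of (A ⧸ I))).inv).1]
    exact ⟨fun h => ⟨y, Ideal.Quotient.eq_zero_iff_mem.mp h, rfl⟩, fun ⟨z, hz, hzy⟩ => by
      rw [← hg.1 hzy]; exact Ideal.Quotient.eq_zero_iff_mem.mpr hz⟩
  rw [h, ← Ideal.map_pow, hI, Ideal.map_bot]

/-- Lifts glue from small affine opens. -/
theorem existsUnique_lift_of_local {f : X ⟶ Y} {T T' : Scheme.{u}} (i : T ⟶ T') (a : T ⟶ X)
    (b : T' ⟶ Y) (w : i ≫ b = a ≫ f) (B : T'.Opens → Prop) (hB : ∀ W, B W → IsAffineOpen W)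
    (hbasis : ∀ (O : T'.Opens) (x : T'), x ∈ O → ∃ W, B W ∧ x ∈ W ∧ W ≤ O)
    (h : ∀ W, B W → ∃! l : W.toScheme ⟶ X,
      (i ∣_ W) ≫ l = (i ⁻¹ᵁ W).ι ≫ a ∧ l ≫ f = W.ι ≫ b) :
    ∃! l : T' ⟶ X, i ≫ l = a ∧ l ≫ f = b := by
  choose l hl hlu using h
  have hres : ∀ (W W' : T'.Opens) (hW : B W) (hW' : B W') (hle : W' ≤ W),
      T'.homOfLE hle ≫ l W hW = l W' hW' := by
    intro W W' hW hW' hle
    refine hlu W' hW' _ ⟨?_, ?_⟩
    · rw [← Category.assoc,
        show (i ∣_ W') ≫ T'.homOfLE hle = T.homOfLE (i.preimage_mono hle) ≫ (i ∣_ W) by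
          rw [← cancel_mono W.ι]
          simp, Category.assoc, (hl W hW).1, ← Category.assoc, Scheme.homOfLE_ι]
    · rw [Category.assoc, (hl W hW).2, ← Category.assoc, Scheme.homOfLE_ι]
  have hsup : (⨆ W : {W : T'.Opens // B W}, W.1) = ⊤ := top_le_iff.mp fun x _ => by
    obtain ⟨W, hW, hxW, -⟩ := hbasis ⊤ x trivial
    exact TopologicalSpace.Opens.mem_iSup.mpr ⟨⟨W, hW⟩, hxW⟩
  let 𝒰 := T'.openCoverOfIsOpenCover (fun W : {W : T'.Opens // B W} => W.1) hsup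
  have hcompat : ∀ j k : {W : T'.Opens // B W},
      pullback.fst j.1.ι k.1.ι ≫ l j.1 j.2 = pullback.snd j.1.ι k.1.ι ≫ l k.1 k.2 := by
    intro j k
    refine Scheme.hom_ext_of_forall _ _ fun z => ?_
    let p := pullback.fst j.1.ι k.1.ι ≫ j.1.ι
    have hp : p = pullback.snd j.1.ι k.1.ι ≫ k.1.ι := pullback.condition
    have hzj : p z ∈ j.1 := (pullback.fst j.1.ι k.1.ι z).2
    have hzk : p z ∈ k.1 := by rw [hp]; exact (pullback.snd j.1.ι k.1.ι z).2
    obtain ⟨W, hW, hzW, hWle⟩ := hbasis (j.1 ⊓ k.1) (p z) ⟨hzj, hzk⟩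
    refine ⟨p ⁻¹ᵁ W, hzW, ?_⟩
    have e1 : (p ⁻¹ᵁ W).ι ≫ pullback.fst j.1.ι k.1.ι =
        (p ∣_ W) ≫ T'.homOfLE (hWle.trans inf_le_left) := by
      rw [← cancel_mono j.1.ι]; simp [p]
    have e2 : (p ⁻¹ᵁ W).ι ≫ pullback.snd j.1.ι k.1.ι =
        (p ∣_ W) ≫ T'.homOfLE (hWle.trans inf_le_right) := by
      rw [← cancel_mono k.1.ι, Category.assoc, ← hp]; simp
    rw [← Category.assoc, e1, Category.assoc, hres _ _ j.2 hW, ← Category.assoc, e2, Category.assoc,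
      hres _ _ k.2 hW]
  let L : T' ⟶ X := 𝒰.glueMorphisms (fun j => l j.1 j.2) hcompat
  have hL : ∀ j : {W : T'.Opens // B W}, j.1.ι ≫ L = l j.1 j.2 := fun j =>
    𝒰.ι_glueMorphisms _ hcompat j
  refine ⟨L, ⟨?_, ?_⟩, fun m ⟨m₁, m₂⟩ => ?_⟩
  · refine Scheme.hom_ext_of_forall _ _ fun t => ?_
    obtain ⟨W, hW, htW, -⟩ := hbasis ⊤ (i t) trivial
    refine ⟨i ⁻¹ᵁ W, htW, ?_⟩
    rw [← Category.assoc, ← morphismRestrict_ι, Category.assoc, hL ⟨W, hW⟩, (hl W hW).1]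
  · refine Scheme.hom_ext_of_forall _ _ fun t => ?_
    obtain ⟨W, hW, htW, -⟩ := hbasis ⊤ t trivial
    exact ⟨W, htW, by rw [← Category.assoc, hL ⟨W, hW⟩, (hl W hW).2]⟩
  · refine 𝒰.hom_ext _ _ fun j => ?_
    show j.1.ι ≫ m = j.1.ι ≫ L
    rw [hL]
    refine hlu j.1 j.2 _ ⟨?_, ?_⟩
    · rw [← Category.assoc, morphismRestrict_ι, Category.assoc, m₁]
    · rw [Category.assoc, m₂]

/-- Formally étale morphisms lift uniquely against first order thickenings of any scheme. -/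
theorem existsUnique_lift {f : X ⟶ Y} (hf : MoreMor.IsFormallyEtaleHom f) {T T' : Scheme.{u}}
    (i : T ⟶ T') (hi : MoreMor.IsFirstOrderThickening i) (a : T ⟶ X) (b : T' ⟶ Y)
    (w : i ≫ b = a ≫ f) : ∃! l : T' ⟶ X, i ≫ l = a ∧ l ≫ f = b := by
  obtain ⟨⟨hci, -⟩, hsq⟩ := hi
  haveI := hci
  refine existsUnique_lift_of_local i a b w (fun W => IsAffineOpen W) (fun _ h => h)
    (fun O x hx => ?_) fun W hW => ?_
  · obtain ⟨_, ⟨W : T'.Opens, hW, rfl⟩, hxW, hWO⟩ :=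
      T'.isBasis_affineOpens.exists_subset_of_mem_open hx O.2
    exact ⟨W, hW, hxW, hWO⟩
  · haveI : IsAffine W.toScheme := hW
    haveI : IsClosedImmersion (i ∣_ W) := IsZariskiLocalAtTarget.restrict hci W
    refine existsUnique_lift_affine hf (i ∣_ W) (ker_morphismRestrict i W ?_) _ _ ?_
    · have h := congr(($hsq).ideal ⟨W, hW⟩)
      rw [Scheme.IdealSheafData.ideal_mul, Pi.mul_apply, Scheme.Hom.ker_apply] at h
      rw [pow_two, h]
      rfl
    · rw [← Category.assoc, morphismRestrict_ι, Category.assoc, w, Category.assoc]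

/-- Being formally étale is local on the source. -/
theorem of_local_source (f : X ⟶ Y)
    (h : ∀ x : X, ∃ U : X.Opens, x ∈ U ∧ MoreMor.IsFormallyEtaleHom (U.ι ≫ f)) :
    MoreMor.IsFormallyEtaleHom f := by
  intro A _ I hI a b w
  choose U hxU hU using h
  let i : Spec (CommRingCat.of (A ⧸ I)) ⟶ Spec (CommRingCat.of A) :=
    Spec.map (CommRingCat.ofHom (Ideal.Quotient.mk I))
  haveI : IsClosedImmersion i := IsClosedImmersion.spec_of_surjective _ Ideal.Quotient.mk_surjective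
  have hsurj : Function.Surjective i := surjective_quotient A I hI
  refine existsUnique_lift_of_local i a b w
    (fun W => IsAffineOpen W ∧ ∃ x, i ⁻¹ᵁ W ≤ a ⁻¹ᵁ U x)
    (fun _ h => h.1) (fun O p hp => ?_) fun W ⟨hW, x, hx⟩ => ?_
  · obtain ⟨q, rfl⟩ := hsurj p
    have hemb : Topology.IsEmbedding i := (IsClosedImmersion.base_closed (f := i)).isEmbedding
    obtain ⟨V, hVo, hV⟩ := hemb.isInducing.isOpen_iff.mp (a ⁻¹ᵁ U (a q)).2
    have hqV : i q ∈ V := by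
      show q ∈ i ⁻¹' V
      rw [hV]; exact hxU (a q)
    obtain ⟨_, ⟨s, rfl⟩, hqs, hsO⟩ := PrimeSpectrum.isTopologicalBasis_basic_opens
      |>.exists_subset_of_mem_open (show i q ∈ (O : Set _) ∩ V from ⟨hp, hqV⟩) (O.2.inter hVo)
    refine ⟨PrimeSpectrum.basicOpen s, ⟨?_, a q, fun z hz => ?_⟩, hqs,
      fun z hz => (hsO hz).1⟩
    · exact basicOpen_eq_of_affine (R := CommRingCat.of A) s ▸
        (isAffineOpen_top _).basicOpen ((Scheme.ΓSpecIso (CommRingCat.of A)).inv s)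
    · have : z ∈ i ⁻¹' V := (hsO hz).2
      rwa [hV] at this
  · haveI : IsAffine W.toScheme := hW
    haveI : IsClosedImmersion (i ∣_ W) := IsZariskiLocalAtTarget.restrict ‹_› W
    have hker : RingHom.ker (i.app W).hom ^ 2 = ⊥ := by
      have h0 : i.ker * i.ker = ⊥ := by
        apply Scheme.IdealSheafData.ext_of_isAffine
        rw [Scheme.IdealSheafData.ideal_mul, Pi.mul_apply, Scheme.Hom.ker_apply,
          Scheme.IdealSheafData.ideal_bot, Pi.bot_apply, ← pow_two]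
        exact ker_appTop_sq A I hI
      have h := congr(($h0).ideal ⟨W, hW⟩)
      rw [Scheme.IdealSheafData.ideal_mul, Pi.mul_apply, Scheme.Hom.ker_apply] at h
      rw [pow_two, h]
      rfl
    let a' : (i ⁻¹ᵁ W).toScheme ⟶ (U x).toScheme := IsOpenImmersion.lift (U x).ι
      ((i ⁻¹ᵁ W).ι ≫ a) (by rintro _ ⟨z, rfl⟩; rw [(U x).range_ι]; exact hx z.2)
    have ha' : a' ≫ (U x).ι = (i ⁻¹ᵁ W).ι ≫ a := IsOpenImmersion.lift_fac _ _ _
    obtain ⟨l, ⟨l₁, l₂⟩, hu⟩ := existsUnique_lift_affine (hU x) (i ∣_ W)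
      (ker_morphismRestrict i W hker) a' (W.ι ≫ b)
      (by rw [← Category.assoc, morphismRestrict_ι, Category.assoc, w, reassoc_of% ha'])
    refine ⟨l ≫ (U x).ι, ⟨by rw [← Category.assoc, l₁, ha'], by rw [Category.assoc, l₂]⟩,
      fun m ⟨m₁, m₂⟩ => ?_⟩
    have hm : Set.range m ⊆ Set.range (U x).ι := by
      rintro _ ⟨z, rfl⟩
      obtain ⟨q, hq⟩ := hsurj (W.ι z)
      have hqW : q ∈ i ⁻¹ᵁ W := by show i q ∈ W; rw [hq]; exact z.2
      have hz : (i ∣_ W) ⟨q, hqW⟩ = z := by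
        apply W.ι.isOpenEmbedding.injective
        rw [← Scheme.Hom.comp_apply, morphismRestrict_ι]
        exact hq
      rw [← hz, ← Scheme.Hom.comp_apply, m₁, ← ha', Scheme.Hom.comp_apply]
      exact ⟨_, rfl⟩
    rw [← hu (IsOpenImmersion.lift (U x).ι m hm) ⟨?_, ?_⟩, IsOpenImmersion.lift_fac]
    · rw [← cancel_mono (U x).ι, Category.assoc, IsOpenImmersion.lift_fac, m₁, ha']
    · rw [← Category.assoc, IsOpenImmersion.lift_fac, m₂]

end Groth.Agent.FEtHom
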