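import Mathlib
import Groth.Agent.FEtHom.Basic

set_option autoImplicit false
set_option backward.isDefEq.respectTransparency false
set_option backward.defeqAttrib.useBackward true
set_option linter.style.haveILetI false

/-!
# Formally étale morphisms and formally étale algebras
-/

open CategoryTheory CategoryTheory.Limits AlgebraicGeometry Opposite

universe u

namespace Groth.Agent.FEtHom

variable {X Y : Scheme.{u}}

theorem resLE_eq_specMap (f : X ⟶ Y) {U : X.Opens} {V : Y.Opens} (hU : IsAffineOpen U)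
    (hV : IsAffineOpen V) (h : U ≤ f ⁻¹ᵁ V) :
    f.resLE V U h = hU.isoSpec.hom ≫ Spec.map (f.appLE V U h) ≫ hV.isoSpec.inv := by
  rw [← cancel_mono V.ι, Scheme.Hom.resLE_comp_ι, Category.assoc, Category.assoc,
    hV.isoSpec_inv_ι, hV.SpecMap_appLE_fromSpec f hU h, ← Category.assoc, ← hU.isoSpec_inv_ι,
    Iso.hom_inv_id_assoc]

theorem appLE_formallyEtale {f : X ⟶ Y} (hf : MoreMor.IsFormallyEtaleHom f) {U : X.Opens}
    {V : Y.Opens} (hU : IsAffineOpen U) (hV : IsAffineOpen V) (h : U ≤ f ⁻¹ᵁ V) :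
    (f.appLE V U h).hom.FormallyEtale := by
  rw [← spec_map_iff]
  have h1 := resLE hf U V h
  rw [resLE_eq_specMap f hU hV h] at h1
  have h2 := comp (of_iso hU.isoSpec.inv) (comp h1 (of_iso hV.isoSpec.hom))
  simpa using h2

theorem of_appLE (f : X ⟶ Y) (H : ∀ x : X, ∃ (U : X.Opens) (V : Y.Opens) (_ : IsAffineOpen U)
    (_ : IsAffineOpen V) (h : U ≤ f ⁻¹ᵁ V), x ∈ U ∧ (f.appLE V U h).hom.FormallyEtale) :
    MoreMor.IsFormallyEtaleHom f := by
  refine of_local_source f fun x => ?_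
  obtain ⟨U, V, hU, hV, h, hxU, hfe⟩ := H x
  refine ⟨U, hxU, ?_⟩
  rw [← Scheme.Hom.resLE_comp_ι f h, resLE_eq_specMap f hU hV h]
  exact comp (comp (of_iso _) (comp ((spec_map_iff _).mpr hfe) (of_iso _))) (of_isOpenImmersion _)

theorem iff_appLE (f : X ⟶ Y) : MoreMor.IsFormallyEtaleHom f ↔
    ∀ (U : X.Opens) (V : Y.Opens) (_ : IsAffineOpen U) (_ : IsAffineOpen V) (h : U ≤ f ⁻¹ᵁ V),
      (f.appLE V U h).hom.FormallyEtale := by
  refine ⟨fun hf U V hU hV h => appLE_formallyEtale hf hU hV h, fun H => of_appLE f fun x => ?_⟩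
  obtain ⟨_, ⟨V : Y.Opens, hV, rfl⟩, hyV, -⟩ :=
    Y.isBasis_affineOpens.exists_subset_of_mem_open (Set.mem_univ (f x)) isOpen_univ
  obtain ⟨_, ⟨U : X.Opens, hU, rfl⟩, hxU, h⟩ :=
    X.isBasis_affineOpens.exists_subset_of_mem_open (a := x) (u := ↑(f ⁻¹ᵁ V)) hyV (f ⁻¹ᵁ V).2
  exact ⟨U, V, hU, hV, h, hxU, H U V hU hV h⟩

theorem etale_iff (f : X ⟶ Y) :
    Etale f ↔ LocallyOfFinitePresentation f ∧ MoreMor.IsFormallyEtaleHom f := by
  constructor
  · intro _
    refine ⟨inferInstance, (iff_appLE f).mpr fun U V hU hV h => ?_⟩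
    algebraize [(f.appLE V U h).hom]
    haveI : Algebra.Etale Γ(Y, V) Γ(X, U) :=
      RingHom.etale_algebraMap.mp (f.etale_appLE hV hU h)
    show Algebra.FormallyEtale Γ(Y, V) Γ(X, U)
    infer_instance
  · rintro ⟨_, hf⟩
    refine ⟨fun {V} hV {U} hU h => ?_⟩
    algebraize [(f.appLE V U h).hom]
    haveI : Algebra.FormallyEtale Γ(Y, V) Γ(X, U) := appLE_formallyEtale hf hU hV h
    haveI : Algebra.FinitePresentation Γ(Y, V) Γ(X, U) :=
      RingHom.finitePresentation_algebraMap.mp (f.finitePresentation_appLE hV hU h)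
    exact RingHom.etale_algebraMap.mpr ⟨inferInstance, inferInstance⟩

/-- A flat quotient is given by an idempotent ideal. -/
theorem isIdempotentElem_of_flat_quotient {A : Type u} [CommRing A] (J : Ideal A)
    [Module.Flat A (A ⧸ J)] : IsIdempotentElem J := by
  refine le_antisymm Ideal.mul_le_right fun x hx => ?_
  have hinj := Module.Flat.rTensor_preserves_injective_linearMap (M := A ⧸ J)
    (Submodule.subtype J) (Submodule.injective_subtype J)
  have h0 : (⟨x, hx⟩ : J) ⊗ₜ[A] (1 : A ⧸ J) = 0 := by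
    apply hinj
    rw [map_zero, LinearMap.rTensor_tmul]
    show (x : A) ⊗ₜ[A] (1 : A ⧸ J) = 0
    have hx0 : x • (1 : A ⧸ J) = 0 := by
      rw [Algebra.smul_def, mul_one]; exact Ideal.Quotient.eq_zero_iff_mem.mpr hx
    calc (x : A) ⊗ₜ[A] (1 : A ⧸ J) = (x • (1 : A)) ⊗ₜ[A] (1 : A ⧸ J) := by simp
      _ = (1 : A) ⊗ₜ[A] (x • (1 : A ⧸ J)) := TensorProduct.smul_tmul _ _ _
      _ = 0 := by rw [hx0, TensorProduct.tmul_zero]
  have h1 := congrArg (TensorProduct.tensorQuotEquivQuotSMul J J) h0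
  rw [map_zero, show (1 : A ⧸ J) = Ideal.Quotient.mk J 1 from rfl,
    TensorProduct.tensorQuotEquivQuotSMul_tmul_mk, one_smul, Submodule.Quotient.mk_eq_zero] at h1
  have h2 : (J.subtype ⟨x, hx⟩) ∈ Submodule.map J.subtype (J • (⊤ : Submodule A J)) :=
    Submodule.mem_map_of_mem h1
  rwa [Submodule.map_smul'', Submodule.map_top, Submodule.range_subtype, smul_eq_mul] at h2

/-- Finite type, flat and formally unramified algebras are formally étale. -/
theorem formallyEtale_of_flat_unramified {R S : Type u} [CommRing R] [CommRing S] [Algebra R S]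
    [Algebra.FiniteType R S] [Module.Flat R S] [Algebra.FormallyUnramified R S] :
    ∀ q : Ideal S, q.IsPrime → ∃ f ∉ q, Algebra.FormallyEtale R (Localization.Away f) := by
  intro q _
  obtain ⟨f, hf, P, φ, hφ⟩ :=
    Algebra.IsUnramifiedAt.exists_hasStandardEtaleSurjectionOn (R := R) q
  refine ⟨f, hf, ?_⟩
  haveI : Algebra.Etale R P.Ring := inferInstance
  letI := φ.toRingHom.toAlgebra
  haveI : IsScalarTower R P.Ring (Localization.Away f) :=
    .of_algebraMap_eq fun r => (φ.commutes r).symm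
  haveI : Module.Flat S (Localization.Away f) := IsLocalization.flat _ (.powers f)
  haveI : Module.Flat R (Localization.Away f) := Module.Flat.trans R S _
  haveI : Module.Flat P.Ring (Localization.Away f) :=
    Algebra.FormallyUnramified.flat_of_restrictScalars R P.Ring (Localization.Away f)
  haveI : Module.Flat P.Ring (P.Ring ⧸ RingHom.ker (algebraMap P.Ring (Localization.Away f))) :=
    Module.Flat.of_linearEquiv (Ideal.quotientKerAlgEquivOfSurjective
      (f := Algebra.ofId P.Ring (Localization.Away f)) hφ).toLinearEquiv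
  haveI : Algebra.FormallyEtale P.Ring (Localization.Away f) :=
    (Algebra.FormallyEtale.iff_of_surjective hφ).mpr (isIdempotentElem_of_flat_quotient _)
  exact Algebra.FormallyEtale.comp R P.Ring _

theorem of_flat_unramified (f : X ⟶ Y) [Flat f] [FormallyUnramified f] [LocallyOfFiniteType f] :
    MoreMor.IsFormallyEtaleHom f := by
  refine of_appLE f fun x => ?_
  obtain ⟨_, ⟨V : Y.Opens, hV, rfl⟩, hyV, -⟩ :=
    Y.isBasis_affineOpens.exists_subset_of_mem_open (Set.mem_univ (f x)) isOpen_univ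
  obtain ⟨_, ⟨U : X.Opens, hU, rfl⟩, hxU, h⟩ :=
    X.isBasis_affineOpens.exists_subset_of_mem_open (a := x) (u := ↑(f ⁻¹ᵁ V)) hyV (f ⁻¹ᵁ V).2
  algebraize [(f.appLE V U h).hom]
  haveI : Algebra.FiniteType Γ(Y, V) Γ(X, U) :=
    RingHom.finiteType_algebraMap.mp (f.finiteType_appLE hV hU h)
  haveI : Algebra.FormallyUnramified Γ(Y, V) Γ(X, U) :=
    RingHom.formallyUnramified_algebraMap.mp (f.formallyUnramified_appLE hV hU h)
  haveI : Module.Flat Γ(Y, V) Γ(X, U) :=
    RingHom.flat_algebraMap_iff.mp (f.flat_appLE hV hU h)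
  obtain ⟨s, hs, hfe⟩ := formallyEtale_of_flat_unramified (R := Γ(Y, V))
    (hU.primeIdealOf ⟨x, hxU⟩).asIdeal (hU.primeIdealOf ⟨x, hxU⟩).isPrime
  have hle : X.basicOpen s ≤ f ⁻¹ᵁ V := (X.basicOpen_le s).trans h
  refine ⟨X.basicOpen s, V, hU.basicOpen s, hV, hle, ?_, ?_⟩
  · have h1 : hU.primeIdealOf ⟨x, hxU⟩ ∈ hU.fromSpec ⁻¹ᵁ X.basicOpen s := by
      rw [hU.fromSpec_preimage_basicOpen]; exact hs
    have h2 : hU.fromSpec (hU.primeIdealOf ⟨x, hxU⟩) ∈ X.basicOpen s := h1
    rw [hU.fromSpec_primeIdealOf] at h2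
    exact h2
  · letI := (f.appLE V (X.basicOpen s) hle).hom.toAlgebra
    letI := (X.presheaf.map (homOfLE (X.basicOpen_le s)).op).hom.toAlgebra
    haveI := hU.isLocalization_basicOpen s
    haveI : IsScalarTower Γ(Y, V) Γ(X, U) Γ(X, X.basicOpen s) := .of_algebraMap_eq fun r => by
      show f.appLE V (X.basicOpen s) hle r = X.presheaf.map _ (f.appLE V U h r)
      rw [← CommRingCat.comp_apply, Scheme.Hom.appLE_map]
    haveI := hfe
    show Algebra.FormallyEtale Γ(Y, V) Γ(X, X.basicOpen s)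
    exact Algebra.FormallyEtale.of_equiv ((IsLocalization.algEquiv (.powers s)
      (Localization.Away s) Γ(X, X.basicOpen s)).restrictScalars Γ(Y, V))

end Groth.Agent.FEtHom
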